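import Cfsg.Agent.Chars.Induced.Gallagher
import Cfsg.Agent.Chars.Induced.Det
import Cfsg.Agent.Chars.Induced.Ito
import Cfsg.Agent.Chars.GaloisDegree.Basic

/-!
# Manz: maximal non-abelian quotients of solvable groups and degrees over them
-/

set_option autoImplicit false
open Cfsg CfsgLib CfsgLib.Chars CfsgLib.Chars.Induced
open scoped commutatorElement

noncomputable section

namespace CfsgLib.ManzComponents

universe u

variable {G : Type u} [Group G] [Fintype G] {N : Subgroup G} [N.Normal] [Fintype N]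

/-- Conjugation by an element as an endomorphism of a normal subgroup. -/
def cj (N : Subgroup G) [N.Normal] (g : G) : N →* N where
  toFun n := ⟨g * n * g⁻¹, ‹N.Normal›.conj_mem _ n.2 _⟩
  map_one' := Subtype.ext (by simp)
  map_mul' a b := Subtype.ext (by simp [mul_assoc])

omit [Fintype G] [Fintype N] in
theorem cj_mul (g h : G) (n : N) : cj N (g * h) n = cj N g (cj N h n) :=
  Subtype.ext (by show g * h * (n : G) * (g * h)⁻¹ = g * (h * n * h⁻¹) * g⁻¹; group)

omit [Fintype G] [Fintype N] in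
theorem hom_cj_mem (f : N →* ℂˣ) {m : G} (hm : m ∈ N) (n : N) : f (cj N m n) = f n := by
  have h : cj N m n = ⟨m, hm⟩ * n * ⟨m, hm⟩⁻¹ := Subtype.ext rfl
  rw [h, map_mul, map_mul, map_inv, mul_comm (f ⟨m, hm⟩), mul_inv_cancel_right]

omit [Fintype G] in
/-- Characters fixed by an element have a fixed determinant. -/
theorem detHom_cj (φ : IrrCharacter N) {g : G}
    (h : ∀ n : N, (φ : N → ℂ) (cj N g n) = (φ : N → ℂ) n) (n : N) :
    detChar (φ : N → ℂ) (cj N g n) = detChar (φ : N → ℂ) n := by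
  obtain ⟨m, ρ, hρ, hρφ⟩ := id φ.2
  rw [detChar_eq_of_rep φ.2 ρ hρφ, detChar_eq_of_rep φ.2 (ρ.comp (cj N g))
    (funext fun x => (congrFun hρφ _).trans (h x))]
  rfl

/-- **Degrees over the kernel of a maximal non-abelian quotient.** -/
theorem exists_degree_index_mul (hcomm : ∀ a b : G, a * b * a⁻¹ * b⁻¹ ∈ N) {q : ℕ}
    (hq : q.Prime) (lam : N →* ℂˣ) (hlam : lam ≠ 1) (hlq : ∀ n, lam n ^ q = 1)
    (hfpf : ∀ g : G, g ∉ N → ∀ μ : N →* ℂˣ, (∀ n, lam n = 1 → (∀ g, lam (cj N g n) = 1) → μ n = 1) →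
      (∀ n, μ (cj N g n) = μ n) → μ = 1)
    (ψ : IrrCharacter N) (hψ : ¬ q ∣ charDegree (ψ : N → ℂ)) :
    ∃ χ : IrrCharacter G, charDegree (χ : G → ℂ) = N.index * charDegree (ψ : N → ℂ) := by
  classical
  have hind : ∀ φ : IrrCharacter N, inertia N (φ : N → ℂ) = N →
      (φ : N → ℂ) 1 = (ψ : N → ℂ) 1 →
      ∃ χ : IrrCharacter G, charDegree (χ : G → ℂ) = N.index * charDegree (ψ : N → ℂ) := by
    intro φ hφ h1
    refine ⟨⟨_, isIrrCharacter_indFun_normal φ hφ⟩, ?_⟩
    apply Nat.cast_injective (R := ℂ)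
    rw [Nat.cast_mul, coe_charDegree, coe_charDegree]
    show indFun N (φ : N → ℂ) 1 = _
    rw [indFun_one_apply, h1]
  by_cases hin : inertia N (ψ : N → ℂ) = N
  · exact hind ψ hin rfl
  obtain ⟨a, haT, haN⟩ : ∃ a ∈ inertia N (ψ : N → ℂ), a ∉ N := by
    by_contra h
    push Not at h
    exact hin (le_antisymm h (le_inertia (isClassFunction_coe ψ)))
  have hinv : ∀ (φ : IrrCharacter N) (g : G), g ∈ inertia N (φ : N → ℂ) →
      ∀ n, (φ : N → ℂ) (cj N g n) = (φ : N → ℂ) n := fun φ g hg n =>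
    mem_inertia_iff_forall.1 hg n (cj N g n) rfl
  set d := charDegree (ψ : N → ℂ) with hd
  let φ : IrrCharacter N := ⟨fun n => (lam n : ℂ) * (ψ : N → ℂ) n,
    isIrrCharacter_linear_mul ψ.2 lam⟩
  refine hind φ (le_antisymm ?_ (le_inertia (isClassFunction_coe φ))) (by simp [φ])
  intro g hg
  by_contra hgN
  set δ : N →* ℂˣ := detHom (isCharacter_coe ψ) with hδ
  have hδφ : ∀ n, detChar (φ : N → ℂ) n = ((lam n ^ d * δ n : ℂˣ) : ℂ) := by
    intro n
    rw [Units.val_mul, Units.val_pow_eq_pow_val, detHom_apply]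
    exact detChar_linear_mul ψ.2 lam (coe_charDegree ψ).symm n
  have hδa : ∀ n, δ (cj N a n) = δ n := fun n => Units.ext (by
    rw [detHom_apply, detHom_apply]; exact detHom_cj ψ (hinv ψ a haT) n)
  have hg' : ∀ n, lam (cj N g n) ^ d * δ (cj N g n) = lam n ^ d * δ n := fun n => Units.ext (by
    rw [← hδφ, ← hδφ]; exact detHom_cj φ (hinv φ g hg) n)
  set μ : N →* ℂˣ := δ.comp (cj N g) / δ with hμ
  have hμK : ∀ n, lam n = 1 → (∀ x, lam (cj N x n) = 1) → μ n = 1 := by
    intro n hn hnx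
    have h := hg' n
    rw [hnx g, hn, one_pow, one_mul, one_mul] at h
    rw [hμ, MonoidHom.div_apply, MonoidHom.comp_apply, h, div_self']
  have hμa : ∀ n, μ (cj N a n) = μ n := by
    intro n
    have hswap : cj N g (cj N a n) = cj N (g * a * g⁻¹ * a⁻¹) (cj N a (cj N g n)) := by
      rw [← cj_mul, ← cj_mul, ← cj_mul]
      congr 1
      group
    simp only [hμ, MonoidHom.div_apply, MonoidHom.comp_apply, hδa, hswap,
      hom_cj_mem δ (hcomm g a)]
  have hμ1 : μ = 1 := hfpf a haN μ hμK hμa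
  refine hlam (hfpf g hgN lam (fun n hn _ => hn) fun n => ?_)
  have h1 : δ (cj N g n) = δ n := by
    have := DFunLike.congr_fun hμ1 n
    rwa [hμ, MonoidHom.div_apply, MonoidHom.comp_apply, MonoidHom.one_apply, div_eq_one] at this
  have h2 := hg' n
  rw [h1, mul_left_inj] at h2
  have h3 : (lam (cj N g n) / lam n) ^ d = 1 := by rw [div_pow, h2, div_self']
  have h4 : (lam (cj N g n) / lam n) ^ q = 1 := by rw [div_pow, hlq, hlq, div_self']
  have h5 := pow_gcd_eq_one.2 ⟨h3, h4⟩
  rw [Nat.Coprime.gcd_eq_one ((Nat.Prime.coprime_iff_not_dvd hq).2 hψ).symm, pow_one,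
    div_eq_one] at h5
  exact h5

/-- **Structure of a maximal non-abelian quotient of a solvable group.** -/
theorem exists_quotient {G : Type u} [Group G] [Finite G] [Group.IsSolvable G]
    (hG : ¬ ∀ a b : G, a * b = b * a) :
    (∃ (p : ℕ) (K : Subgroup G) (_ : K.Normal), p.Prime ∧ IsPGroup p (G ⧸ K) ∧
      ¬ ∀ a b : G ⧸ K, a * b = b * a) ∨
    ∃ (q : ℕ) (N : Subgroup G) (_ : N.Normal) (lam : N →* ℂˣ), q.Prime ∧
      (∀ a b : G, a * b * a⁻¹ * b⁻¹ ∈ N) ∧ N ≠ ⊤ ∧ lam ≠ 1 ∧ (∀ n, lam n ^ q = 1) ∧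
      ∀ g : G, g ∉ N → ∀ μ : N →* ℂˣ,
        (∀ n, lam n = 1 → (∀ g, lam (cj N g n) = 1) → μ n = 1) →
        (∀ n, μ (cj N g n) = μ n) → μ = 1 := by
  classical
  obtain ⟨K, ⟨⟨hKn, hKna⟩, hKmax⟩⟩ : ∃ K : Subgroup G, Maximal (fun K : Subgroup G =>
      K.Normal ∧ ∃ a b : G, a * b * a⁻¹ * b⁻¹ ∉ K) K := by
    push Not at hG
    obtain ⟨a, b, hab⟩ := hG
    exact Set.Finite.exists_maximal (Set.toFinite {K : Subgroup G | K.Normal ∧
        ∃ a b : G, a * b * a⁻¹ * b⁻¹ ∉ K}) ⟨⊥, inferInstance, a, b, fun h => hab (by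
      rw [Subgroup.mem_bot, mul_inv_eq_one, mul_inv_eq_iff_eq_mul] at h
      exact h)⟩
  haveI := hKn
  set Q := G ⧸ K with hQ
  set M : Subgroup Q := commutator Q with hM
  have hMne : M ≠ ⊥ := by
    obtain ⟨a, b, hab⟩ := hKna
    intro h
    have h1 : ⁅(a : Q), (b : Q)⁆ ∈ M :=
      Subgroup.commutator_mem_commutator (Subgroup.mem_top _) (Subgroup.mem_top _)
    rw [h, Subgroup.mem_bot, commutatorElement_def] at h1
    exact hab ((QuotientGroup.eq_one_iff _).1 (by simpa using h1))
  have hmin : ∀ W : Subgroup Q, W.Normal → W ≠ ⊥ → M ≤ W := by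
    intro W hW hW1
    haveI := hW
    set W' := W.comap (QuotientGroup.mk' K) with hW'
    have hKW : K ≤ W' := fun k hk => by
      rw [hW', Subgroup.mem_comap, QuotientGroup.mk'_apply, (QuotientGroup.eq_one_iff k).2 hk]
      exact W.one_mem
    have hcomm : ∀ a b : G, a * b * a⁻¹ * b⁻¹ ∈ W' := by
      by_contra hne
      push Not at hne
      obtain ⟨a, b, hab⟩ := hne
      have hle : W' ≤ K := hKmax ⟨inferInstance, a, b, hab⟩ hKW
      refine hW1 (eq_bot_iff.2 fun w hw => ?_)
      obtain ⟨g, rfl⟩ := QuotientGroup.mk'_surjective K w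
      exact Subgroup.mem_bot.2 ((QuotientGroup.eq_one_iff g).2 (hle hw))
    rw [hM, commutator_def, Subgroup.commutator_le]
    intro x _ y _
    obtain ⟨a, rfl⟩ := QuotientGroup.mk'_surjective K x
    obtain ⟨b, rfl⟩ := QuotientGroup.mk'_surjective K y
    have := hcomm a b
    rw [hW', Subgroup.mem_comap] at this
    simpa [commutatorElement_def] using this
  haveI : M.Normal := by rw [hM]; infer_instance
  have hMM : ∀ x ∈ M, ∀ y ∈ M, x * y = y * x := by
    have h1 : ⁅M, M⁆ = ⊥ := by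
      by_contra hne
      have h2 : M ≤ ⁅M, M⁆ := hmin _ inferInstance hne
      have hsol : ∀ k : ℕ, M ≤ derivedSeries Q k := by
        intro k
        induction k with
        | zero => exact le_top
        | succ k ih => exact h2.trans (Subgroup.commutator_mono ih ih)
      obtain ⟨k, hk⟩ := (inferInstance : Group.IsSolvable Q).solvable
      exact hMne (eq_bot_iff.2 ((hsol k).trans hk.le))
    intro x hx y hy
    exact commutatorElement_eq_one_iff_mul_comm.1
      (Subgroup.mem_bot.1 (h1 ▸ Subgroup.commutator_mem_commutator hx hy))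
  obtain ⟨q, hq, hqM⟩ := Nat.exists_prime_and_dvd (n := Nat.card M) fun h =>
    hMne (Subgroup.card_eq_one.1 h)
  haveI := Fact.mk hq
  have hexp : ∀ x ∈ M, x ^ q = 1 := by
    let T : Subgroup Q :=
      { carrier := {x | x ∈ M ∧ x ^ q = 1}
        one_mem' := ⟨M.one_mem, one_pow _⟩
        mul_mem' := fun {a b} ha hb => ⟨M.mul_mem ha.1 hb.1, by
          rw [(show Commute a b from hMM a ha.1 b hb.1).mul_pow, ha.2, hb.2, one_mul]⟩
        inv_mem' := fun {a} ha => ⟨M.inv_mem ha.1, by rw [inv_pow, ha.2, inv_one]⟩ }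
    have hTn : T.Normal := ⟨fun x hx g => ⟨‹M.Normal›.conj_mem _ hx.1 _, by
      rw [conj_pow, hx.2, mul_one, mul_inv_cancel]⟩⟩
    obtain ⟨y, hy⟩ := exists_prime_orderOf_dvd_card' q hqM
    have hTne : T ≠ ⊥ := fun h => by
      have hmem : (y : Q) ∈ T := ⟨y.2, by
        rw [← hy, Subgroup.orderOf_coe y |>.symm]; exact pow_orderOf_eq_one _⟩
      rw [h, Subgroup.mem_bot] at hmem
      rw [show y = 1 from Subtype.ext hmem, orderOf_one] at hy
      exact hq.ne_one hy.symm
    exact fun x hx => (hmin T hTn hTne hx).2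
  by_cases hcent : M ≤ Subgroup.center Q
  · -- a `q`-group
    refine Or.inl ⟨q, K, hKn, hq, ?_, ?_⟩
    · have hnil : Group.IsNilpotent Q :=
        ⟨2, eq_top_iff.2 fun x _ => by
          rw [Subgroup.mem_upperCentralSeries_succ_iff]
          intro y
          rw [Subgroup.upperCentralSeries_one]
          exact hcent (Subgroup.commutator_mem_commutator (Subgroup.mem_top _) (Subgroup.mem_top _))⟩
      haveI := hnil
      have hsyl : ∀ r : ℕ, r.Prime → r ≠ q → ¬ r ∣ Nat.card Q := by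
        intro r hr hrq hdvd
        haveI := Fact.mk hr
        obtain ⟨S⟩ : Nonempty (Sylow r Q) := inferInstance
        have hSne : (S : Subgroup Q) ≠ ⊥ := S.ne_bot_of_dvd_card hdvd
        haveI : (S : Subgroup Q).Normal :=
          ((Group.isNilpotent_of_finite_tfae (G := Q)).out 0 3 rfl rfl).1 hnil r ⟨hr⟩ S
        obtain ⟨x, hx⟩ := exists_prime_orderOf_dvd_card' q hqM
        have h1 : orderOf (⟨(x : Q), hmin _ ‹_› hSne x.2⟩ : (S : Subgroup Q)) = q := by
          rw [Subgroup.orderOf_mk, Subgroup.orderOf_coe, hx]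
        obtain ⟨k, hk⟩ := IsPGroup.iff_orderOf.1 S.2 ⟨(x : Q), hmin _ ‹_› hSne x.2⟩
        rw [h1] at hk
        exact hrq ((Nat.prime_dvd_prime_iff_eq hq hr).1 (hq.dvd_of_dvd_pow (n := k)
          (dvd_of_eq hk))).symm
      refine IsPGroup.of_card (n := (Nat.card Q).primeFactorsList.length)
        (Nat.eq_prime_pow_of_unique_prime_dvd Nat.card_pos.ne' fun {r} hr hdvd => ?_)
      by_contra hrq
      exact hsyl r hr hrq hdvd
    · intro h
      obtain ⟨a, b, hab⟩ := hKna
      refine hab ((QuotientGroup.eq_one_iff _).1 ?_)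
      simp only [QuotientGroup.mk_mul, QuotientGroup.mk_inv]
      rw [h (a : Q) (b : Q), mul_inv_cancel_right, mul_inv_cancel]
  -- non-central: a Frobenius action on `M`
  set N : Subgroup G := M.comap (QuotientGroup.mk' K) with hN
  haveI : N.Normal := inferInstance
  have hfix : ∀ x : Q, x ∉ M → ∀ m ∈ M, x * m = m * x → m = 1 := by
    -- every `x` has trivial or full fixed space on `M`
    have hdich : ∀ x : Q, (∀ m ∈ M, x * m = m * x) ∨ (∀ m ∈ M, x * m = m * x → m = 1) := by
      intro x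
      let C : Subgroup Q := M ⊓ Subgroup.centralizer {x}
      have hCn : C.Normal := by
        refine ⟨fun m hm g => ⟨‹M.Normal›.conj_mem _ hm.1 _, ?_⟩⟩
        have h1 : g⁻¹ * x * g * x⁻¹ ∈ M := by
          have := Subgroup.commutator_mem_commutator (H₁ := (⊤ : Subgroup Q)) (H₂ := ⊤)
            (Subgroup.mem_top g⁻¹) (Subgroup.mem_top x)
          rw [commutatorElement_def, inv_inv] at this
          exact this
        have h2 : x * m = m * x := (Subgroup.mem_centralizer_singleton_iff.1 hm.2).symm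
        have h3 : (g⁻¹ * x * g * x⁻¹) * m = m * (g⁻¹ * x * g * x⁻¹) := hMM _ h1 _ hm.1
        refine Subgroup.mem_centralizer_singleton_iff.2 ?_
        calc g * m * g⁻¹ * x = g * (m * (g⁻¹ * x * g * x⁻¹) * x) * g⁻¹ := by group
          _ = g * ((g⁻¹ * x * g * x⁻¹) * (m * x)) * g⁻¹ := by rw [← h3]; group
          _ = g * ((g⁻¹ * x * g * x⁻¹) * (x * m)) * g⁻¹ := by rw [h2]
          _ = x * (g * m * g⁻¹) := by group
      rcases eq_or_ne C ⊥ with h | h
      · right
        intro m hm hxm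
        have : m ∈ C := ⟨hm, Subgroup.mem_centralizer_singleton_iff.2 hxm.symm⟩
        rwa [h, Subgroup.mem_bot] at this
      · left
        intro m hm
        exact (Subgroup.mem_centralizer_singleton_iff.1 (hmin C hCn h hm).2).symm
    obtain ⟨a, ha⟩ : ∃ a : Q, ∀ m ∈ M, a * m = m * a → m = 1 := by
      by_contra hne
      push Not at hne
      refine hcent fun m hm => Subgroup.mem_center_iff.2 fun x => ?_
      rcases hdich x with h | h
      · exact h m hm
      · obtain ⟨m', hm', hc, hm'1⟩ := hne x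
        exact absurd (h m' hm' hc) hm'1
    -- the centralizer of `a` is a complement
    have hsurj : ∀ m ∈ M, ∃ k ∈ M, k * a * k⁻¹ * a⁻¹ = m := by
      let f : M → M := fun k => ⟨(k : Q) * a * (k : Q)⁻¹ * a⁻¹, by
        rw [show (k : Q) * a * (k : Q)⁻¹ * a⁻¹ = k * (a * (k : Q)⁻¹ * a⁻¹) by group]
        exact M.mul_mem k.2 (‹M.Normal›.conj_mem _ (M.inv_mem k.2) _)⟩
      have hf : Function.Injective f := by
        intro k l h
        have h1 : (k : Q) * a * (k : Q)⁻¹ * a⁻¹ = l * a * (l : Q)⁻¹ * a⁻¹ := congrArg Subtype.val h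
        have h2 : a * ((l : Q)⁻¹ * k) = ((l : Q)⁻¹ * k) * a := by
          calc a * ((l : Q)⁻¹ * k) = (l : Q)⁻¹ * (l * a * (l : Q)⁻¹ * a⁻¹) * a * k := by group
            _ = (l : Q)⁻¹ * (k * a * (k : Q)⁻¹ * a⁻¹) * a * k := by rw [h1]
            _ = _ := by group
        have := ha _ (M.mul_mem (M.inv_mem l.2) k.2) h2
        rw [inv_mul_eq_one] at this
        exact Subtype.ext this.symm
      intro m hm
      obtain ⟨k, hk⟩ := Finite.surjective_of_injective hf ⟨m, hm⟩
      exact ⟨k, k.2, congrArg Subtype.val hk⟩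
    have hdec : ∀ x : Q, ∃ m ∈ M, ∃ c : Q, c * a = a * c ∧ x = m * c := by
      intro x
      obtain ⟨k, hk, hk'⟩ := hsurj (x * a * x⁻¹ * a⁻¹)
        (Subgroup.commutator_mem_commutator (Subgroup.mem_top x) (Subgroup.mem_top a))
      refine ⟨k, hk, k⁻¹ * x, ?_, by group⟩
      have h1 : k * a * k⁻¹ = x * a * x⁻¹ := mul_right_cancel hk'
      calc k⁻¹ * x * a = k⁻¹ * (x * a * x⁻¹) * x := by group
        _ = k⁻¹ * (k * a * k⁻¹) * x := by rw [h1]
        _ = a * (k⁻¹ * x) := by group
    intro x hx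
    refine (hdich x).resolve_left fun hfull => hx ?_
    obtain ⟨m, hm, c, hca, rfl⟩ := hdec x
    have hcM : ∀ k ∈ M, c * k = k * c := by
      intro k hk
      have h1 := hfull k hk
      calc c * k = m⁻¹ * (m * c * k) := by group
        _ = m⁻¹ * (k * m) * c := by rw [h1]; group
        _ = m⁻¹ * (m * k) * c := by rw [hMM k hk m hm]
        _ = k * c := by group
    have hcc : c ∈ Subgroup.center Q := by
      rw [Subgroup.mem_center_iff]
      intro y
      obtain ⟨k, hk, d, hda, rfl⟩ := hdec y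
      have hcd : c * d = d * c := by
        set e := c * d * c⁻¹ * d⁻¹ with he
        have heM : e ∈ M :=
          Subgroup.commutator_mem_commutator (Subgroup.mem_top c) (Subgroup.mem_top d)
        have hC : a ∈ Subgroup.centralizer ({c, d} : Set Q) := by
          rw [Subgroup.mem_centralizer_iff]
          rintro z (rfl | rfl)
          · exact hca
          · exact hda
        have hae : a * e = e * a := by
          have hc : Commute a c := hca.symm
          have hd : Commute a d := hda.symm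
          exact (((hc.mul_right hd).mul_right hc.inv_right).mul_right hd.inv_right).eq
        have he1 : e = 1 := ha e heM hae
        rw [he, mul_inv_eq_one, mul_inv_eq_iff_eq_mul] at he1
        exact he1
      calc k * d * c = k * (c * d) := by rw [mul_assoc, hcd]
        _ = (c * k) * d := by rw [hcM k hk, mul_assoc]
        _ = c * (k * d) := by group
    have hcone : c = 1 := by
      by_contra hc1
      have hZ : M ≤ Subgroup.center Q :=
        hmin _ inferInstance fun hb => hc1 (Subgroup.mem_bot.1 (hb ▸ hcc))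
      exact hcent hZ
    rw [hcone, mul_one]
    exact hm
  have hNK : K ≤ N := fun k hk => by
    rw [hN, Subgroup.mem_comap, QuotientGroup.mk'_apply, (QuotientGroup.eq_one_iff k).2 hk]
    exact M.one_mem
  let π : N →* M := ((QuotientGroup.mk' K).comp N.subtype).codRestrict M fun n => n.2
  have hπ : Function.Surjective π := by
    intro m
    obtain ⟨g, hg⟩ := QuotientGroup.mk'_surjective K (m : Q)
    exact ⟨⟨g, by rw [hN, Subgroup.mem_comap, hg]; exact m.2⟩, Subtype.ext hg⟩
  haveI : IsMulCommutative M := ⟨⟨fun x y => Subtype.ext (hMM x x.2 y y.2)⟩⟩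
  letI : CommGroup M := { (inferInstance : Group M) with mul_comm := fun x y => Subtype.ext (hMM x x.2 y y.2) }
  haveI : Nontrivial M := (Subgroup.nontrivial_iff_ne_bot M).2 hMne
  obtain ⟨m₀, hm₀⟩ := exists_ne (1 : M)
  obtain ⟨l, hl⟩ := CommGroup.exists_apply_ne_one_of_hasEnoughRootsOfUnity M ℂ hm₀
  obtain ⟨n₀, hn₀⟩ := hπ m₀
  refine Or.inr ⟨q, N, inferInstance, l.comp π, hq, fun a b => ?_, ?_, ?_, fun n => ?_, ?_⟩
  · rw [hN, Subgroup.mem_comap]
    simp only [map_mul, map_inv]
    exact Subgroup.commutator_mem_commutator (Subgroup.mem_top _) (Subgroup.mem_top _)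
  · intro h
    obtain ⟨x, hx⟩ : ∃ x : Q, x ∉ M := by
      by_contra hne
      push Not at hne
      exact hcent fun m hm => Subgroup.mem_center_iff.2 fun x => hMM x (hne x) m hm
    obtain ⟨g, rfl⟩ := QuotientGroup.mk'_surjective K x
    exact hx (show g ∈ N from h ▸ Subgroup.mem_top g)
  · intro h
    exact hl (by rw [← hn₀]; exact DFunLike.congr_fun h n₀)
  · rw [MonoidHom.comp_apply, ← map_pow, show π n ^ q = 1 from Subtype.ext (by
      push_cast; exact hexp _ (π n).2), map_one]
  · intro g hgN μ hμ hfixμ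
    have hker : ∀ n : N, π n = 1 → μ n = 1 := fun n hn => hμ n
      (by rw [MonoidHom.comp_apply, hn, map_one]) fun x => by
        rw [MonoidHom.comp_apply, show π (cj N x n) = 1 from Subtype.ext (by
          show ((x * (n : G) * x⁻¹ : G) : Q) = 1
          rw [QuotientGroup.mk_mul, QuotientGroup.mk_mul, QuotientGroup.mk_inv,
            show ((n : G) : Q) = 1 from congrArg Subtype.val hn, mul_one, mul_inv_cancel]), map_one]
    let f : M → M := fun k => ⟨(g : Q) * k * (g : Q)⁻¹ * (k : Q)⁻¹,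
      M.mul_mem (‹M.Normal›.conj_mem _ k.2 _) (M.inv_mem k.2)⟩
    have hf : Function.Injective f := by
      intro k k' h
      have h1 : (g : Q) * k * (g : Q)⁻¹ * (k : Q)⁻¹ = g * k' * (g : Q)⁻¹ * (k' : Q)⁻¹ :=
        congrArg Subtype.val h
      have hb : (k : Q)⁻¹ * k' = k' * (k : Q)⁻¹ := hMM _ (M.inv_mem k.2) _ k'.2
      have h2 : (g : Q) * ((k' : Q)⁻¹ * k) = ((k' : Q)⁻¹ * k) * g := by
        calc (g : Q) * ((k' : Q)⁻¹ * k)
            = ((g : Q) * k' * (g : Q)⁻¹)⁻¹ * (((g : Q) * k * (g : Q)⁻¹ * (k : Q)⁻¹) * k) * g := by group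
          _ = ((g : Q) * k' * (g : Q)⁻¹)⁻¹ * (((g : Q) * k' * (g : Q)⁻¹ * (k' : Q)⁻¹) * k) * g := by rw [h1]
          _ = _ := by group
      have h3 := hfix (g : Q) hgN _ (M.mul_mem (M.inv_mem k'.2) k.2) h2
      rw [inv_mul_eq_one] at h3
      exact Subtype.ext h3.symm
    refine MonoidHom.ext fun n => ?_
    obtain ⟨k, hk⟩ := Finite.surjective_of_injective hf (π n)
    obtain ⟨n', rfl⟩ := hπ k
    have h4 : π (n⁻¹ * (cj N g n' * n'⁻¹)) = 1 := by
      rw [map_mul, map_inv, inv_mul_eq_one, ← hk, map_mul, map_inv]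
      rfl
    have h5 := hker _ h4
    rw [map_mul, map_mul, map_inv, map_inv, hfixμ, mul_inv_cancel, mul_one, inv_eq_one] at h5
    exact h5

omit [Fintype N] in
/-- A character of degree prime to a `p`-power index restricts irreducibly. -/
theorem exists_restrict_eq {p : ℕ} (hp : p.Prime) {k : ℕ} (hidx : N.index = p ^ k)
    [Fintype N] (χ : IrrCharacter G) (hχ : ¬ p ∣ charDegree (χ : G → ℂ)) :
    ∃ θ : IrrCharacter N, ∀ n : N, (χ : G → ℂ) n = (θ : N → ℂ) n := by
  classical
  obtain ⟨θ, hθ⟩ := exists_mult_restrict_ne_zero (N := N) χ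
  refine ⟨θ, ?_⟩
  set T := inertia N (θ : N → ℂ) with hT
  set e := mult (fun n : N => (χ : G → ℂ) n) θ with he
  have h1 : charDegree (χ : G → ℂ) = e * T.index * charDegree (θ : N → ℂ) := by
    apply Nat.cast_injective (R := ℂ)
    push_cast
    rw [coe_charDegree, coe_charDegree, clifford_one χ θ hθ]
  have h2 : charDegree (χ : G → ℂ) ∣ charDegree (θ : N → ℂ) := by
    have := charDegree_dvd_mul_index χ θ hθ
    rw [hidx] at this
    exact (Nat.Coprime.pow_right k (((Nat.Prime.coprime_iff_not_dvd hp).2 hχ).symm)).dvd_of_dvd_mul_right this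
  have hθpos : 0 < charDegree (θ : N → ℂ) := by
    refine Nat.pos_of_ne_zero fun h => map_one_ne_zero θ ?_
    rw [← coe_charDegree, h, Nat.cast_zero]
  have h3 : e * T.index = 1 := by
    rw [h1] at h2
    have hle := Nat.le_of_dvd hθpos h2
    have h4 : e * T.index ≤ 1 := Nat.le_of_mul_le_mul_right (by rw [one_mul]; exact hle) hθpos
    have h5 : 0 < e * T.index :=
      Nat.mul_pos (Nat.pos_of_ne_zero hθ) (Nat.pos_of_ne_zero Subgroup.index_ne_zero_of_finite)
    omega
  obtain ⟨he1, hT1⟩ := mul_eq_one.1 h3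
  intro n
  have h6 := congrFun (clifford χ θ hθ) n
  rw [← he, he1, Nat.cast_one, one_smul] at h6
  have hsingle : (Set.finite_range fun x : G => conjIrr x θ).toFinset = {θ} := by
    ext η
    simp only [Set.Finite.mem_toFinset, Set.mem_range, Finset.mem_singleton]
    refine ⟨fun ⟨x, hx⟩ => hx ▸ Subtype.ext (?_ : conjFun N x (θ : N → ℂ) = θ),
      fun h => ⟨1, (conjIrr_one θ).trans h.symm⟩⟩
    exact mem_inertia.1 (by rw [← hT, Subgroup.index_eq_one.1 hT1]; exact Subgroup.mem_top x)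
  rw [hsingle, Finset.sum_singleton] at h6
  exact h6

end CfsgLib.ManzComponents
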